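import Groth.Agent.TStructQuotLib.Basic

/-! The t-structure induced on the Verdier quotient. -/

set_option autoImplicit false
set_option backward.isDefEq.respectTransparency false
set_option backward.isDefEq.respectTransparency.types false
universe v u v' u'
open CategoryTheory CategoryTheory.Limits CategoryTheory.Pretriangulated CategoryTheory.Triangulated

namespace Groth.Agent.TStructQuotLib

variable {C : Type u} [Category.{v} C] [Preadditive C] [HasZeroObject C] [HasShift C ℤ]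
  [∀ n : ℤ, (shiftFunctor C n).Additive] [Pretriangulated C] [IsTriangulated C]
  (t : TStructure C) (D : ObjectProperty C) [D.IsTriangulated] [D.IsClosedUnderIsomorphisms]
  {E : Type u'} [Category.{v'} E] [Preadditive E] [HasZeroObject E] [HasShift E ℤ]
  [∀ n : ℤ, (shiftFunctor E n).Additive] [Pretriangulated E]
  (q : C ⥤ E) [q.CommShift ℤ] [q.IsTriangulated] [q.IsLocalization D.trW]
  (hb : ∀ X : C, t.bounded X)
  (h1 : ∀ X : C, D X → ∀ n : ℤ, D ((t.truncGELE n n).obj X))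
  (h2 : ∀ (X Y Z : C) (f : X ⟶ Y) (g : Y ⟶ Z) (h : Z ⟶ X⟦(1 : ℤ)⟧),
    Triangle.mk f g h ∈ distTriang C → t.heart X → t.heart Y → t.heart Z → D Y → D X ∧ D Z)

include hb h1 h2 in
theorem map_eq_zero {X Y : C} (f : q.obj X ⟶ q.obj Y) (hX : t.le 0 X) (hY : t.ge 1 Y) : f = 0 := by
  haveI : t.IsLE X 0 := ⟨hX⟩
  obtain ⟨φ, rfl⟩ := Localization.exists_rightFraction q D.trW f
  have hD := truncGT_mem_of_trW t D h1 h2 hb φ.s φ.hs 0
  have hι : D.trW ((t.truncLEι 0).app φ.X') :=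
    ObjectProperty.trW.mk D (T := (t.triangleLEGT 0).obj φ.X') (t.triangleLEGT_distinguished 0 _) hD
  haveI := Localization.inverts q D.trW _ hι
  haveI := Localization.inverts q D.trW _ φ.hs
  have hz : (t.truncLEι 0).app φ.X' ≫ φ.f = 0 :=
    t.zero_of_isLE_of_isGE _ 0 1 (by omega) inferInstance ⟨hY⟩
  have hf : q.map φ.f = 0 := by
    rw [← cancel_epi (q.map ((t.truncLEι 0).app φ.X')), ← q.map_comp, hz, q.map_zero, comp_zero]
  rw [MorphismProperty.RightFraction.map, hf, comp_zero]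

noncomputable def tQuot : TStructure E where
  le n := fun Y => ∃ X : C, t.IsLE X n ∧ Nonempty (q.obj X ≅ Y)
  ge n := fun Y => ∃ X : C, t.IsGE X n ∧ Nonempty (q.obj X ≅ Y)
  le_isClosedUnderIsomorphisms n :=
    ⟨fun e ⟨X, hX, ⟨i⟩⟩ => ⟨X, hX, ⟨i ≪≫ e⟩⟩⟩
  ge_isClosedUnderIsomorphisms n :=
    ⟨fun e ⟨X, hX, ⟨i⟩⟩ => ⟨X, hX, ⟨i ≪≫ e⟩⟩⟩
  le_shift n a n' h Y := by
    rintro ⟨X, hX, ⟨i⟩⟩
    exact ⟨X⟦a⟧, t.isLE_shift X n a n' h, ⟨(q.commShiftIso a).app X ≪≫ (shiftFunctor E a).mapIso i⟩⟩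
  ge_shift n a n' h Y := by
    rintro ⟨X, hX, ⟨i⟩⟩
    exact ⟨X⟦a⟧, t.isGE_shift X n a n' h, ⟨(q.commShiftIso a).app X ≪≫ (shiftFunctor E a).mapIso i⟩⟩
  zero' Y₁ Y₂ f := by
    rintro ⟨X₁, hX₁, ⟨i₁⟩⟩ ⟨X₂, hX₂, ⟨i₂⟩⟩
    have h := map_eq_zero t D q hb h1 h2 (i₁.hom ≫ f ≫ i₂.inv) hX₁.le hX₂.ge
    simpa using congrArg (fun g => i₁.inv ≫ g ≫ i₂.hom) h
  le_zero_le := fun Y ⟨X, hX, i⟩ => ⟨X, t.isLE_of_le X 0 1 (by omega), i⟩
  ge_one_le := fun Y ⟨X, hX, i⟩ => ⟨X, t.isGE_of_ge X 0 1 (by omega), i⟩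
  exists_triangle_zero_one Y := by
    haveI : q.EssSurj := Localization.essSurj q D.trW
    have hT := q.map_distinguished _
      (t.triangleLEGT_distinguished 0 (q.objPreimage Y))
    let T := q.mapTriangle.obj ((t.triangleLEGT 0).obj (q.objPreimage Y))
    refine ⟨T.obj₁, T.obj₃, ⟨(t.truncLE 0).obj _, inferInstance, ⟨Iso.refl _⟩⟩,
      ⟨(t.truncGT 0).obj _, ?_, ⟨Iso.refl _⟩⟩, T.mor₁ ≫ (q.objObjPreimageIso Y).hom,
      (q.objObjPreimageIso Y).inv ≫ T.mor₂, T.mor₃, isomorphic_distinguished _ hT _ ?_⟩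
    · exact t.isGE_truncGT_obj _ 0 1
    · exact Triangle.isoMk _ _ (Iso.refl _) (q.objObjPreimageIso Y).symm (Iso.refl _)
        (by simp [T]) (by simp [T]) (by simp [T])

include hb h1 h2 in
theorem isLE_of_exact {Y : E} {n : ℤ} (t'' : TStructure E)
    (hle : ∀ (X : C) (n : ℤ), t.IsLE X n → t''.IsLE (q.obj X) n)
    (hge : ∀ (X : C) (n : ℤ), t.IsGE X n → t''.IsGE (q.obj X) n)
    (hY : t''.le n Y) : ∃ X : C, t.IsLE X n ∧ Nonempty (q.obj X ≅ Y) := by
  haveI : q.EssSurj := Localization.essSurj q D.trW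
  let X := q.objPreimage Y
  have hT := q.map_distinguished _ (t.triangleLEGT_distinguished n X)
  haveI : t''.IsLE Y n := ⟨hY⟩
  haveI : t''.IsLE (q.obj X) n := t''.isLE_of_iso (q.objObjPreimageIso Y).symm n
  haveI := hge _ _ (inferInstance : t.IsGE ((t.truncGT n).obj X) (n + 1))
  let T := q.mapTriangle.obj ((t.triangleLEGT n).obj X)
  have h0 : T.mor₂ = 0 :=
    t''.zero_of_isLE_of_isGE _ n (n + 1) (by omega) (inferInstanceAs (t''.IsLE (q.obj X) n))
      (inferInstanceAs (t''.IsGE (q.obj ((t.truncGT n).obj X)) (n + 1)))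
  have hz : IsZero T.obj₃ := by
    obtain ⟨r, hr⟩ := Triangle.yoneda_exact₂ T.rotate (rot_of_distTriang _ hT) (𝟙 T.obj₃)
      (by
        change T.mor₂ ≫ 𝟙 _ = 0
        rw [h0, zero_comp])
    have hr0 : r = 0 :=
      t''.zero_of_isLE_of_isGE r (n - 1) (n + 1) (by omega)
        (by
          haveI := hle _ _ (inferInstance : t.IsLE ((t.truncLE n).obj X) n)
          exact t''.isLE_shift (q.obj ((t.truncLE n).obj X)) n 1 (n - 1) (by omega))
        (inferInstanceAs (t''.IsGE (q.obj ((t.truncGT n).obj X)) (n + 1)))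
    rw [hr0, comp_zero] at hr
    exact (IsZero.iff_id_eq_zero _).2 hr
  haveI : IsIso T.mor₁ := (Triangle.isZero₃_iff_isIso₁ T hT).1 hz
  exact ⟨(t.truncLE n).obj X, inferInstance, ⟨asIso T.mor₁ ≪≫ q.objObjPreimageIso Y⟩⟩

include hb h1 h2 in
theorem isGE_of_exact {Y : E} {n : ℤ} (t'' : TStructure E)
    (hle : ∀ (X : C) (n : ℤ), t.IsLE X n → t''.IsLE (q.obj X) n)
    (hge : ∀ (X : C) (n : ℤ), t.IsGE X n → t''.IsGE (q.obj X) n)
    (hY : t''.ge n Y) : ∃ X : C, t.IsGE X n ∧ Nonempty (q.obj X ≅ Y) := by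
  haveI : q.EssSurj := Localization.essSurj q D.trW
  let X := q.objPreimage Y
  have hT := q.map_distinguished _ (t.triangleLEGT_distinguished (n - 1) X)
  haveI : t''.IsGE Y n := ⟨hY⟩
  haveI : t''.IsGE (q.obj X) n := t''.isGE_of_iso (q.objObjPreimageIso Y).symm n
  haveI := hle _ _ (inferInstance : t.IsLE ((t.truncLE (n - 1)).obj X) (n - 1))
  let T := q.mapTriangle.obj ((t.triangleLEGT (n - 1)).obj X)
  have h0 : T.mor₁ = 0 :=
    t''.zero_of_isLE_of_isGE _ (n - 1) n (by omega)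
      (inferInstanceAs (t''.IsLE (q.obj ((t.truncLE (n - 1)).obj X)) (n - 1)))
      (inferInstanceAs (t''.IsGE (q.obj X) n))
  have hz : IsZero T.obj₁ := by
    obtain ⟨r, hr⟩ := Triangle.coyoneda_exact₂ T.invRotate (inv_rot_of_distTriang _ hT) (𝟙 T.obj₁)
      (by
        change 𝟙 _ ≫ T.mor₁ = 0
        rw [h0, comp_zero])
    have hr0 : r = 0 :=
      t''.zero_of_isLE_of_isGE r (n - 1) (n + 1) (by omega)
        (inferInstanceAs (t''.IsLE (q.obj ((t.truncLE (n - 1)).obj X)) (n - 1)))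
        (by
          haveI := hge _ _ (t.isGE_truncGT_obj X (n - 1) n)
          exact t''.isGE_shift (q.obj ((t.truncGT (n - 1)).obj X)) n (-1) (n + 1) (by omega))
    rw [hr0, zero_comp] at hr
    exact (IsZero.iff_id_eq_zero _).2 hr
  haveI : IsIso T.mor₂ := (Triangle.isZero₁_iff_isIso₂ T hT).1 hz
  exact ⟨(t.truncGT (n - 1)).obj X, inferInstance, ⟨(asIso T.mor₂).symm ≪≫ q.objObjPreimageIso Y⟩⟩

end Groth.Agent.TStructQuotLib
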