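import Mathlib.CategoryTheory.Triangulated.Subcategory
import Mathlib.CategoryTheory.Triangulated.TStructure.TruncLEGT
import Mathlib.CategoryTheory.Triangulated.TStructure.Heart
import Mathlib.CategoryTheory.Localization.CalculusOfFractions

/-!
Truncations and thick subcategories compatible with a bounded t-structure, and the induced
t-structure on the Verdier quotient.
-/

set_option autoImplicit false
set_option backward.isDefEq.respectTransparency false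
set_option backward.isDefEq.respectTransparency.types false
universe v u v' u'
open CategoryTheory CategoryTheory.Limits CategoryTheory.Pretriangulated CategoryTheory.Triangulated

namespace Groth.Agent.TStructQuotLib

variable {C : Type u} [Category.{v} C] [Preadditive C] [HasZeroObject C] [HasShift C ℤ]
  [∀ n : ℤ, (shiftFunctor C n).Additive] [Pretriangulated C] [IsTriangulated C]
  (t : TStructure C) (D : ObjectProperty C) [D.IsTriangulated] [D.IsClosedUnderIsomorphisms]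

/-- The third object of a truncation triangle of `t.truncGE n W`. -/
theorem truncGE_mem_of_truncGELE_mem (W : C) (n : ℤ) (h₁ : D ((t.truncGELE n n).obj W))
    (h₂ : D ((t.truncGE (n + 1)).obj W)) : D ((t.truncGE n).obj W) := by
  let T := (t.triangleLEGT n).obj ((t.truncGE n).obj W)
  have hT : T ∈ distTriang C := t.triangleLEGT_distinguished n _
  refine D.ext_of_isTriangulatedClosed₂ T hT ?_ ?_
  · exact D.prop_of_iso ((t.truncGELEIsoLEGE n n).app W) h₁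
  · haveI : IsIso ((t.truncGE (n + 1)).map ((t.truncGEπ n).app W)) :=
      t.isIso_truncGE_map_truncGEπ_app (n + 1) n (by lia) W
    exact D.prop_of_iso (asIso ((t.truncGE (n + 1)).map ((t.truncGEπ n).app W))) h₂

/-- Descending induction on truncations. -/
theorem truncGE_mem (W : C) (b : ℤ) [t.IsLE W b] (m : ℤ)
    (h : ∀ n, m ≤ n → D ((t.truncGELE n n).obj W)) : D ((t.truncGE m).obj W) := by
  suffices ∀ (k : ℕ) (n : ℤ), m ≤ n → b < n + k → D ((t.truncGE n).obj W) from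
    this (b - m + 1).toNat m le_rfl (by omega)
  intro k
  induction k with
  | zero =>
    intro n _ hn
    haveI : t.IsLE W (n - 1) := t.isLE_of_le W b (n - 1) (by omega)
    exact ObjectProperty.prop_of_isZero D
      (t.isZero_truncGE_obj_of_isLE (n - 1) n (by omega) W)
  | succ k ih =>
    intro n hmn hn
    exact truncGE_mem_of_truncGELE_mem t D W n (h n hmn) (ih (n + 1) (by omega) (by omega))

variable (h1 : ∀ X : C, D X → ∀ n : ℤ, D ((t.truncGELE n n).obj X))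
  (h2 : ∀ (X Y Z : C) (f : X ⟶ Y) (g : Y ⟶ Z) (h : Z ⟶ X⟦(1 : ℤ)⟧),
    Triangle.mk f g h ∈ distTriang C → t.heart X → t.heart Y → t.heart Z → D Y → D X ∧ D Z)

/-- The map on `n`-th cohomology is "surjective" when the cone is `≤ n - 1`. -/
theorem eq_zero_of_comp_eq_zero (T : Triangle C) (hT : T ∈ distTriang C) (n : ℤ)
    (h₃ : t.IsLE T.obj₃ (n - 1)) {Z : C} [t.IsGE Z n]
    (u : (t.truncGELE n n).obj T.obj₂ ⟶ Z)
    (hu : (t.truncGELE n n).map T.mor₁ ≫ u = 0) : u = 0 := by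
  let P₁ := (t.truncLE n).obj T.obj₁
  let P₂ := (t.truncLE n).obj T.obj₂
  let Q₁ := (t.truncGT n).obj T.obj₁
  let Q₂ := (t.truncGT n).obj T.obj₂
  let ι₁ : P₁ ⟶ T.obj₁ := (t.truncLEι n).app T.obj₁
  let ι₂ : P₂ ⟶ T.obj₂ := (t.truncLEι n).app T.obj₂
  let π₁ : T.obj₁ ⟶ Q₁ := (t.truncGTπ n).app T.obj₁
  let π₂ : T.obj₂ ⟶ Q₂ := (t.truncGTπ n).app T.obj₂
  let δ₁ : Q₁ ⟶ P₁⟦(1 : ℤ)⟧ := (t.truncGTδLE n).app T.obj₁
  let δ₂ : Q₂ ⟶ P₂⟦(1 : ℤ)⟧ := (t.truncGTδLE n).app T.obj₂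
  let fP : P₁ ⟶ P₂ := (t.truncLE n).map T.mor₁
  let fQ : Q₁ ⟶ Q₂ := (t.truncGT n).map T.mor₁
  have hd₁ : Triangle.mk ι₁ π₁ δ₁ ∈ distTriang C := t.triangleLEGT_distinguished n T.obj₁
  have hd₂ : Triangle.mk ι₂ π₂ δ₂ ∈ distTriang C := t.triangleLEGT_distinguished n T.obj₂
  have eι : fP ≫ ι₂ = ι₁ ≫ T.mor₁ := (t.truncLEι n).naturality T.mor₁
  have eπ : T.mor₁ ≫ π₂ = π₁ ≫ fQ := (t.truncGTπ n).naturality T.mor₁
  have eδ : fQ ≫ δ₂ = δ₁ ≫ fP⟦(1 : ℤ)⟧' := (t.truncGTδLE n).naturality T.mor₁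
  haveI hp : IsIso fQ :=
    t.isIso₂_truncGT_map_of_isLE T.invRotate (inv_rot_of_distTriang _ hT) n
      (t.isLE_shift T.obj₃ (n - 1) (-1) n (by omega))
  let p₁ : P₁ ⟶ (t.truncGELE n n).obj T.obj₁ := (t.truncGEπ n).app P₁
  let p₂ : P₂ ⟶ (t.truncGELE n n).obj T.obj₂ := (t.truncGEπ n).app P₂
  have ep : fP ≫ p₂ = p₁ ≫ (t.truncGELE n n).map T.mor₁ := (t.truncGEπ n).naturality fP
  let v : P₂ ⟶ Z := p₂ ≫ u
  suffices hv : v = 0 from t.from_truncGE_obj_ext (hv.trans comp_zero.symm)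
  have hv1 : fP ≫ v = 0 := by
    rw [show fP ≫ v = (fP ≫ p₂) ≫ u from (Category.assoc _ _ _).symm, ep, Category.assoc, hu,
      comp_zero]
  -- `v` extends to `T.obj₂`
  have hδ : δ₂ ≫ v⟦(1 : ℤ)⟧' = 0 := by
    rw [← cancel_epi fQ, comp_zero, reassoc_of% eδ, ← Functor.map_comp, hv1, Functor.map_zero,
      comp_zero]
  obtain ⟨w₁, hw₁⟩ := Triangle.yoneda_exact₂ _
    (rot_of_distTriang _ (rot_of_distTriang _ hd₂)) (v⟦(1 : ℤ)⟧') hδ
  obtain ⟨w₂, hw₂⟩ := (shiftFunctor C (1 : ℤ)).map_surjective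
    (show T.obj₂⟦(1 : ℤ)⟧ ⟶ Z⟦(1 : ℤ)⟧ from w₁)
  obtain ⟨w, hw⟩ : ∃ w : T.obj₂ ⟶ Z, v = ι₂ ≫ w := by
    refine ⟨-w₂, (shiftFunctor C (1 : ℤ)).map_injective ?_⟩
    rw [hw₁, Functor.map_comp, Functor.map_neg, hw₂]
    exact (Preadditive.neg_comp _ _).trans (Preadditive.comp_neg _ _).symm
  obtain ⟨r, hr⟩ : ∃ r : Q₁ ⟶ Z, T.mor₁ ≫ w = π₁ ≫ r :=
    Triangle.yoneda_exact₂ _ hd₁ (T.mor₁ ≫ w) (by
      change ι₁ ≫ T.mor₁ ≫ w = 0
      rw [← reassoc_of% eι, ← hw, hv1])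
  obtain ⟨r', hr'⟩ := Triangle.yoneda_exact₂ _ hT (w - π₂ ≫ inv fQ ≫ r) (by
      rw [Preadditive.comp_sub, reassoc_of% eπ, IsIso.hom_inv_id_assoc, ← hr, sub_self])
  have hr0 : r' = 0 := t.zero_of_isLE_of_isGE r' (n - 1) n (by omega) h₃ inferInstance
  rw [hr0, comp_zero, sub_eq_zero] at hr'
  have e : ι₂ ≫ π₂ = 0 := comp_distTriang_mor_zero₁₂ (Triangle.mk ι₂ π₂ δ₂) hd₂
  rw [hw, hr', reassoc_of% e, zero_comp]

include h1 h2 in
theorem truncGELE_mem_of_dist (T : Triangle C) (hT : T ∈ distTriang C) (n : ℤ)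
    (hD : D T.obj₁) (h₃ : t.IsLE T.obj₃ (n - 1)) : D ((t.truncGELE n n).obj T.obj₂) := by
  let g := (t.truncGELE n n).map T.mor₁
  obtain ⟨Cg, a, b, hg⟩ := distinguished_cocone_triangle g
  have hA₁ : t.IsLE ((t.truncGELE n n).obj T.obj₁) n := inferInstance
  have hA₂ : t.IsGE ((t.truncGELE n n).obj T.obj₁) n := inferInstance
  have hB₁ : t.IsLE ((t.truncGELE n n).obj T.obj₂) n := inferInstance
  have hB₂ : t.IsGE ((t.truncGELE n n).obj T.obj₂) n := inferInstance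
  have hA₁' : t.IsLE (((t.truncGELE n n).obj T.obj₁)⟦(1 : ℤ)⟧) (n - 1) :=
    t.isLE_shift _ n 1 (n - 1) (by omega)
  have hA₂' : t.IsGE (((t.truncGELE n n).obj T.obj₁)⟦(1 : ℤ)⟧) (n - 1) :=
    t.isGE_shift _ n 1 (n - 1) (by omega)
  have hC₂ : t.IsGE Cg (n - 1) :=
    t.isGE₂ _ (rot_of_distTriang _ hg) (n - 1) (@TStructure.isGE_of_ge _ _ _ _ _ _ _ t _ (n - 1) n (by omega) hB₂) hA₂'
  have hC₁ : t.IsLE Cg (n - 1) := by
    rw [t.isLE_iff_orthogonal (n - 1) n (by omega)]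
    intro Z k hZ
    obtain ⟨r, hr⟩ := Triangle.yoneda_exact₂ _ (rot_of_distTriang _ hg) k
      (eq_zero_of_comp_eq_zero t T hT n h₃ (a ≫ k) (by
        change g ≫ a ≫ k = 0
        have e : g ≫ a = 0 := comp_distTriang_mor_zero₁₂ _ hg
        rw [reassoc_of% e, zero_comp]))
    have hr0 : r = 0 := t.zero_of_isLE_of_isGE r (n - 1) n (by omega) hA₁' hZ
    rw [hr, hr0]
    exact comp_zero
  have hS := Triangle.shift_distinguished _ (inv_rot_of_distTriang _ hg) n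
  have hm : ∀ (X : C), t.IsLE X n → t.IsGE X n → t.heart (X⟦n⟧) := fun X _ _ =>
    (t.mem_heart_iff _).2 ⟨t.isLE_shift X n n 0 (by omega), t.isGE_shift X n n 0 (by omega)⟩
  have hK₁ : t.IsLE (Cg⟦(-1 : ℤ)⟧) n := t.isLE_shift Cg (n - 1) (-1) n (by omega)
  have hK₂ : t.IsGE (Cg⟦(-1 : ℤ)⟧) n := t.isGE_shift Cg (n - 1) (-1) n (by omega)
  have hZ := (h2 _ _ _ _ _ _ hS (hm _ hK₁ hK₂) (hm _ hA₁ hA₂) (hm _ hB₁ hB₂)
    (D.le_shift n _ (h1 _ hD n))).2
  exact (D.prop_shift_iff_of_isStableUnderShift _ n).1 hZ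

include h1 h2 in
/-- If the cone of `X' ⟶ X` is in `D` and `X ≤ m`, then `τ^{> m} X'` is in `D`. -/
theorem truncGT_mem_of_trW (hb : ∀ X : C, t.bounded X) {X' X : C} (s : X' ⟶ X) (hs : D.trW s)
    (m : ℤ) [t.IsLE X m] : D ((t.truncGT m).obj X') := by
  obtain ⟨W, g, h, hT, hW⟩ := hs
  obtain ⟨b, hb'⟩ := (hb X').2
  refine truncGE_mem t D X' b (m + 1) fun n hn => ?_
  exact truncGELE_mem_of_dist t D h1 h2 _ (inv_rot_of_distTriang _ hT) n (D.le_shift (-1) _ hW)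
    (t.isLE_of_le X m (n - 1) (by omega))

end Groth.Agent.TStructQuotLib
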